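import Mathlib
import Cfsg.Agent.Lib.Helper37.U27.Defs
import Cfsg.Agent.Lib.Helper45.HermSU

/-!
# Project U27 (S5999), package [CARD3]: `81 ∤ |SU_3(p)|` for `p ≡ 2, 5 (mod 9)`
-/

set_option autoImplicit false
open scoped MatrixGroups Matrix

namespace Cfsg.Agent.Lib.Helper62.U27

open Cfsg.Agent.Lib.Helper37.U27 Cfsg.Agent.Lib.Helper45

universe u

/-- `SU_3(q)` inside `GL_3` has as many elements as the set of isometry matrices of determinant
one. -/
theorem card_Gp_eq {F : Type u} [Field F] [Fintype F] [DecidableEq F] {q : ℕ}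
    (hF : Fintype.card F = q ^ 2) :
    Nat.card (Gp F q) = ((hermIsoSet 3 F q).filter (fun M => M.det = 1)).card := by
  rw [← Nat.card_eq_finsetCard]
  apply Nat.card_congr
  have hdet : ∀ g : GL (Fin 3) F, g ∈ Cfsg.Geo.specialLinear (Fin 3) F ↔
      (g : Matrix (Fin 3) (Fin 3) F).det = 1 := by
    intro g
    unfold Cfsg.Geo.specialLinear
    rw [MonoidHom.mem_ker]
    constructor
    · intro h
      have h1 := congrArg Units.val h
      rwa [Matrix.GeneralLinearGroup.val_det_apply] at h1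
    · intro h
      apply Units.ext
      rw [Matrix.GeneralLinearGroup.val_det_apply, h]
      rfl
  refine Equiv.ofBijective
    (fun g : Gp F q => (⟨(g.1 : Matrix (Fin 3) (Fin 3) F),
      Finset.mem_filter.mpr ⟨mem_hermIsoSet.mpr g.2.1, (hdet g.1).mp g.2.2⟩⟩ :
      ((hermIsoSet 3 F q).filter (fun M => M.det = 1)))) ⟨?_, ?_⟩
  · intro g g' h
    have h1 : (g.1 : Matrix (Fin 3) (Fin 3) F) = g'.1 := congrArg Subtype.val h
    exact Subtype.ext (Units.ext h1)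
  · rintro ⟨M, hM⟩
    rw [Finset.mem_filter, mem_hermIsoSet] at hM
    obtain ⟨U, hU⟩ := isHermIso_isUnit hF hM.1
    refine ⟨⟨U, ?_, ?_⟩, Subtype.ext hU⟩
    · intro a b
      show Cfsg.hermForm 3 F q ((U : Matrix (Fin 3) (Fin 3) F) *ᵥ a)
        ((U : Matrix (Fin 3) (Fin 3) F) *ᵥ b) = _
      rw [hU]
      exact hM.1 a b
    · exact (hdet U).mpr (by rw [hU]; exact hM.2)

/-- The order of `SU_3(q)`. -/
theorem card_Gp {F : Type u} [Field F] [Fintype F] {q : ℕ} (hF : Fintype.card F = q ^ 2) :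
    Nat.card (Gp F q) = q ^ 3 * ((q ^ 2 - 1) * (q ^ 3 + 1)) := by
  classical
  have h1 := card_SU_mul hF 3 (by norm_num)
  rw [card_SU_eq, ← card_Gp_eq hF, card_GU hF] at h1
  have h2 : q ^ (3 * (3 - 1) / 2) *
      ∏ i ∈ Finset.range 3, (if Even i then q ^ (i + 1) + 1 else q ^ (i + 1) - 1)
      = (q + 1) * (q ^ 3 * ((q ^ 2 - 1) * (q ^ 3 + 1))) := by
    rw [Finset.prod_range_succ, Finset.prod_range_succ, Finset.prod_range_succ,
      Finset.prod_range_zero]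
    have e0 : Even 0 := ⟨0, rfl⟩
    have e1 : ¬ Even 1 := by decide
    have e2 : Even 2 := ⟨1, rfl⟩
    rw [if_pos e0, if_neg e1, if_pos e2]
    norm_num
    ring
  rw [h2] at h1
  exact Nat.eq_of_mul_eq_mul_left (by omega) h1

theorem card3_arith (A B : ℕ) (hA : A % 3 ≠ 0) (hB : B % 3 ≠ 0) (p M : ℕ)
    (hp : Nat.Coprime 81 (p ^ 3)) (hM : M = 27 * (A * B)) : ¬ 81 ∣ p ^ 3 * M := by
  intro h
  have h1 : 81 ∣ M := Nat.Coprime.dvd_of_dvd_mul_left hp h
  rw [hM] at h1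
  have h2 : 3 ∣ A * B := Nat.dvd_of_mul_dvd_mul_left (by norm_num : 0 < 27) (by simpa using h1)
  rcases (Nat.Prime.dvd_mul Nat.prime_three).mp h2 with h3 | h3
  · omega
  · omega

/-- **[CARD3]** `|SU_3(p)|_3 = 27` for `p ≡ 2, 5 (mod 9)`. -/
theorem pkgCard3 : PkgCard3.{u} := by
  intro F _ _ p hp hF h3 h9
  rw [card_Gp hF]
  have hp3 : p ≠ 3 := by
    rintro rfl
    omega
  have hcop : Nat.Coprime 81 (p ^ 3) := by
    have h0 : Nat.Coprime 3 p := (Nat.coprime_primes Nat.prime_three hp).mpr (Ne.symm hp3)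
    have h1 : Nat.Coprime (3 ^ 4) (p ^ 3) := Nat.Coprime.pow 4 3 h0
    simpa using h1
  obtain ⟨k, hk⟩ : ∃ k, p = 9 * k + 2 ∨ p = 9 * k + 5 := ⟨p / 9, by omega⟩
  rcases hk with rfl | rfl
  · have e1 : (9 * k + 2) ^ 2 - 1 = 3 * (27 * k ^ 2 + 12 * k + 1) :=
      Nat.sub_eq_of_eq_add (by ring)
    refine card3_arith (27 * k ^ 2 + 12 * k + 1) (81 * k ^ 3 + 54 * k ^ 2 + 12 * k + 1) ?_ ?_ _ _
      hcop ?_
    · have e : 27 * k ^ 2 + 12 * k + 1 = 3 * (9 * k ^ 2 + 4 * k) + 1 := by ring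
      rw [e, Nat.mul_add_mod]
      norm_num
    · have e : 81 * k ^ 3 + 54 * k ^ 2 + 12 * k + 1 = 3 * (27 * k ^ 3 + 18 * k ^ 2 + 4 * k) + 1 := by
        ring
      rw [e, Nat.mul_add_mod]
      norm_num
    · rw [e1]
      ring
  · have e1 : (9 * k + 5) ^ 2 - 1 = 3 * (27 * k ^ 2 + 30 * k + 8) :=
      Nat.sub_eq_of_eq_add (by ring)
    refine card3_arith (27 * k ^ 2 + 30 * k + 8 + 0) (81 * k ^ 3 + 135 * k ^ 2 + 75 * k + 14)
      ?_ ?_ _ _ hcop ?_
    · have e : 27 * k ^ 2 + 30 * k + 8 + 0 = 3 * (9 * k ^ 2 + 10 * k + 2) + 2 := by ring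
      rw [e, Nat.mul_add_mod]
      norm_num
    · have e : 81 * k ^ 3 + 135 * k ^ 2 + 75 * k + 14
          = 3 * (27 * k ^ 3 + 45 * k ^ 2 + 25 * k + 4) + 2 := by ring
      rw [e, Nat.mul_add_mod]
      norm_num
    · rw [e1]
      ring

end Cfsg.Agent.Lib.Helper62.U27
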